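import Mathlib

/-! General exterior-power lemmas: coercion of `exteriorPower.map`, wedge of exterior powers,
kernel of `exteriorPower.map` of a surjection. -/

open exteriorPower Function

namespace Groth.Agent.Lib.Helper5.DRQuot

variable {A : Type*} [CommRing A] {M N : Type*} [AddCommGroup M] [Module A M]
  [AddCommGroup N] [Module A N]

theorem coe_map (n : ℕ) (f : M →ₗ[A] N) (x : ↥(⋀[A]^n M)) :
    ((exteriorPower.map n f x : ↥(⋀[A]^n N)) : ExteriorAlgebra A N) =
      ExteriorAlgebra.map f (x : ExteriorAlgebra A M) := by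
  have h : (Submodule.subtype (⋀[A]^n N)) ∘ₗ exteriorPower.map n f =
      (ExteriorAlgebra.map f).toLinearMap ∘ₗ (Submodule.subtype (⋀[A]^n M)) := by
    apply exteriorPower.linearMap_ext
    ext v
    simp [exteriorPower.map_apply_ιMulti, ExteriorAlgebra.map_apply_ιMulti]
  exact LinearMap.congr_fun h x

/-- the wedge product of exterior powers -/
noncomputable def wedge {p q n : ℕ} (h : p + q = n) :
    ↥(⋀[A]^p M) →ₗ[A] ↥(⋀[A]^q M) →ₗ[A] ↥(⋀[A]^n M) :=
  LinearMap.mk₂ A (fun x y => ⟨(x : ExteriorAlgebra A M) * (y : ExteriorAlgebra A M), by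
      subst h
      have : (⋀[A]^(p+q) M) = (⋀[A]^p M) * (⋀[A]^q M) := by
        simp only [ExteriorAlgebra.exteriorPower, pow_add]
      rw [this]
      exact Submodule.mul_mem_mul x.2 y.2⟩)
    (fun x x' y => by ext; simp [add_mul])
    (fun c x y => by ext; simp)
    (fun x y y' => by ext; simp [mul_add])
    (fun c x y => by ext; simp)

@[simp] theorem coe_wedge {p q n : ℕ} (h : p + q = n) (x : ↥(⋀[A]^p M)) (y : ↥(⋀[A]^q M)) :
    ((wedge h x y : ↥(⋀[A]^n M)) : ExteriorAlgebra A M) = (x : ExteriorAlgebra A M) * y := rfl

theorem coe_ιMulti_cons (q : ℕ) (ω : M) (m : Fin q → M) :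
    ((ιMulti A (q+1) (Fin.cons ω m) : ↥(⋀[A]^(q+1) M)) : ExteriorAlgebra A M) =
      ExteriorAlgebra.ι A ω * ExteriorAlgebra.ιMulti A q m := by
  rw [ιMulti_apply_coe, ExteriorAlgebra.ιMulti_succ_apply]
  congr 1

section Kernel

variable (f : M →ₗ[A] N)

/-- The submodule of `⋀^(q+1) M` spanned by wedges with first entry in `ker f`. -/
def K (q : ℕ) : Submodule A ↥(⋀[A]^(q+1) M) :=
  Submodule.span A {x | ∃ (ω : M) (m : Fin q → M), f ω = 0 ∧ x = ιMulti A (q+1) (Fin.cons ω m)}

theorem ιMulti_mem_K (q : ℕ) (v : Fin (q+1) → M) (i : Fin (q+1)) (hi : f (v i) = 0) :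
    ιMulti A (q+1) v ∈ K f q := by
  by_cases h0 : i = 0
  · subst h0
    apply Submodule.subset_span
    exact ⟨v 0, Fin.tail v, hi, by rw [Fin.cons_self_tail]⟩
  · have hsw : ιMulti A (q+1) (v ∘ Equiv.swap 0 i) = - ιMulti A (q+1) v :=
      AlternatingMap.map_swap _ v (Ne.symm h0)
    have : ιMulti A (q+1) v = - ιMulti A (q+1) (v ∘ Equiv.swap 0 i) := by rw [hsw, neg_neg]
    rw [this]
    apply Submodule.neg_mem
    apply Submodule.subset_span
    refine ⟨(v ∘ Equiv.swap 0 i) 0, Fin.tail (v ∘ Equiv.swap 0 i), ?_, by rw [Fin.cons_self_tail]⟩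
    simpa using hi

theorem ιMulti_sub_mem_K (q : ℕ) (u w : Fin (q+1) → M) (h : ∀ j, f (u j) = f (w j)) :
    ιMulti A (q+1) u - ιMulti A (q+1) w ∈ K f q := by
  classical
  have key : ∀ T : Finset (Fin (q+1)),
      ιMulti A (q+1) (fun j => if j ∈ T then u j else w j) - ιMulti A (q+1) w ∈ K f q := by
    intro T
    induction T using Finset.induction_on with
    | empty => simp
    | insert j T hj ih =>
      set g : Fin (q+1) → M := fun k => if k ∈ T then u k else w k with hg
      have e1 : (fun k => if k ∈ insert j T then u k else w k) = Function.update g j (u j) := by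
        funext k
        by_cases hk : k = j
        · subst hk; simp
        · simp [Function.update_of_ne hk, hg, Finset.mem_insert, hk]
      have e2 : g = Function.update g j (w j) := by
        funext k
        by_cases hk : k = j
        · subst hk; simp [hg, hj]
        · simp [Function.update_of_ne hk]
      have e3 : ιMulti A (q+1) (Function.update g j (u j)) - ιMulti A (q+1) g =
          ιMulti A (q+1) (Function.update g j (u j - w j)) := by
        conv_lhs => rw [e2]
        rw [Function.update_idem]
        rw [← AlternatingMap.map_update_sub]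
      rw [e1]
      have : ιMulti A (q+1) (Function.update g j (u j)) - ιMulti A (q+1) w =
          (ιMulti A (q+1) (Function.update g j (u j)) - ιMulti A (q+1) g) +
          (ιMulti A (q+1) g - ιMulti A (q+1) w) := by abel
      rw [this, e3]
      refine Submodule.add_mem _ ?_ ih
      apply ιMulti_mem_K f q _ j
      simp [h j]
  have := key Finset.univ
  simpa using this

variable {f}

/-- the alternating map `N^(q+1) → ⋀^(q+1) M / K` given by lifting entries. -/
noncomputable def invAlt (hf : Surjective f) (q : ℕ) :
    N [⋀^Fin (q+1)]→ₗ[A] (↥(⋀[A]^(q+1) M) ⧸ K f q) where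
  toFun v := Submodule.Quotient.mk (ιMulti A (q+1) (fun i => surjInv hf (v i)))
  map_update_add' := by
    intro _ m i x y
    have e : ∀ z : N, (fun j => surjInv hf (Function.update m i z j)) =
        Function.update (fun j => surjInv hf (m j)) i (surjInv hf z) := by
      intro z
      funext j
      by_cases hj : j = i
      · subst hj; simp
      · simp [Function.update_of_ne hj]
    rw [e, e, e, ← Submodule.Quotient.mk_add, ← AlternatingMap.map_update_add,
      Submodule.Quotient.eq]
    apply ιMulti_sub_mem_K
    intro j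
    by_cases hj : j = i
    · subst hj; simp [surjInv_eq hf]
    · simp [Function.update_of_ne hj]
  map_update_smul' := by
    intro _ m i c x
    have e : ∀ z : N, (fun j => surjInv hf (Function.update m i z j)) =
        Function.update (fun j => surjInv hf (m j)) i (surjInv hf z) := by
      intro z
      funext j
      by_cases hj : j = i
      · subst hj; simp
      · simp [Function.update_of_ne hj]
    rw [e, e, ← Submodule.Quotient.mk_smul, ← AlternatingMap.map_update_smul,
      Submodule.Quotient.eq]
    apply ιMulti_sub_mem_K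
    intro j
    by_cases hj : j = i
    · subst hj; simp [surjInv_eq hf]
    · simp [Function.update_of_ne hj]
  map_eq_zero_of_eq' := by
    intro v i j hij hne
    have : ιMulti A (q+1) (fun i => surjInv hf (v i)) = 0 :=
      AlternatingMap.map_eq_zero_of_eq _ _ (by simp [hij]) hne
    rw [this]; rfl

theorem ker_map_le_K (hf : Surjective f) (q : ℕ) :
    LinearMap.ker (exteriorPower.map (q+1) f) ≤ K f q := by
  intro x hx
  have hcomp : (alternatingMapLinearEquiv (invAlt hf q)) ∘ₗ exteriorPower.map (q+1) f =
      (K f q).mkQ := by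
    apply exteriorPower.linearMap_ext
    ext w
    simp only [LinearMap.compAlternatingMap_apply, LinearMap.comp_apply,
      exteriorPower.map_apply_ιMulti, alternatingMapLinearEquiv_apply_ιMulti,
      Submodule.mkQ_apply]
    change Submodule.Quotient.mk _ = _
    rw [Submodule.Quotient.eq]
    apply ιMulti_sub_mem_K
    intro j
    simp [surjInv_eq hf]
  have := LinearMap.congr_fun hcomp x
  rw [LinearMap.comp_apply, LinearMap.mem_ker.mp hx, map_zero] at this
  have h0 : (K f q).mkQ x = 0 := this.symm
  simpa using h0

theorem ker_map_zero (x : ↥(⋀[A]^0 M)) (hx : exteriorPower.map 0 f x = 0) : x = 0 := by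
  have := LinearMap.congr_fun (zeroEquiv_naturality (R := A) f) x
  rw [LinearMap.comp_apply, hx] at this
  simp only [map_zero] at this
  exact (LinearEquiv.map_eq_zero_iff _).mp this.symm

end Kernel

end Groth.Agent.Lib.Helper5.DRQuot
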