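import Mathlib
import Groth.Prelude.Def_DeRham
import Groth.Agent.Lib.Helper6.DeRhamGen
import Groth.Agent.Lib.Helper5.DRQuot.A

universe u
open exteriorPower Function

namespace Groth.Agent.Lib.Helper5.DRQuot

section
variable {R A : Type u} [CommRing R] [CommRing A] [Algebra R A]
  (dA : ∀ p : ℕ, ↥(⋀[A]^p (Ω[A⁄R])) →ₗ[R] ↥(⋀[A]^(p + 1) (Ω[A⁄R])))

local notation "D" => KaehlerDifferential.D R A
local notation "EA" => ExteriorAlgebra A (Ω[A⁄R])

theorem leibniz_coe (hdA : DeRham.IsDiff (KaehlerDifferential.D R A) dA)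
    (q : ℕ) (x : ↥(⋀[A]^1 (Ω[A⁄R]))) (b₀ : A) (b : Fin q → A) :
    ((dA (q+1) (b₀ • wedge (show 1 + q = q + 1 from add_comm 1 q) x
        (ιMulti A q (fun i => D (b i)))) : ↥(⋀[A]^(q+1+1) (Ω[A⁄R]))) : EA) =
    b₀ • ((dA 1 x : ↥(⋀[A]^(1+1) (Ω[A⁄R]))) : EA) *
        ExteriorAlgebra.ιMulti A q (fun i => D (b i))
      + ExteriorAlgebra.ι A (D b₀) * (x : EA) * ExteriorAlgebra.ιMulti A q (fun i => D (b i)) := by
  have hδ := KaehlerDifferential.span_range_derivation R A
  induction x using Groth.Agent.H6.DR.gen_induction (KaehlerDifferential.D R A) hδ 1 with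
  | h0 => simp
  | hadd x y hx hy =>
    rw [map_add, LinearMap.add_apply, smul_add, map_add, Submodule.coe_add, hx, hy, map_add,
      Submodule.coe_add, Submodule.coe_add]
    simp only [smul_add, add_mul, mul_add]
    abel
  | hgen c e =>
    have e1 : b₀ • wedge (show 1 + q = q + 1 from add_comm 1 q) (DeRham.gen D 1 c e)
        (ιMulti A q (fun i => D (b i))) = DeRham.gen D (q+1) (b₀ * c) (Fin.cons (e 0) b) := by
      apply Subtype.ext
      unfold DeRham.gen
      rw [Submodule.coe_smul, coe_wedge, Submodule.coe_smul, Submodule.coe_smul,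
        ιMulti_apply_coe, ιMulti_apply_coe, ιMulti_apply_coe,
        ExteriorAlgebra.ιMulti_succ_apply, ExteriorAlgebra.ιMulti_zero_apply,
        ExteriorAlgebra.ιMulti_succ_apply]
      have : Matrix.vecTail (fun i => D ((Fin.cons (e 0) b : Fin (q+1) → A) i)) =
          fun i => D (b i) := by
        funext i; simp [Matrix.vecTail]
      rw [this]
      simp [smul_smul, mul_assoc, smul_mul_assoc]
    rw [e1, hdA.1 (q+1) (b₀ * c) (Fin.cons (e 0) b), hdA.1 1 c e]
    rw [coe_ιMulti_cons, coe_ιMulti_cons]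
    unfold DeRham.gen
    rw [Submodule.coe_smul, ιMulti_apply_coe]
    simp only [ExteriorAlgebra.ιMulti_succ_apply, ExteriorAlgebra.ιMulti_zero_apply,
      Fin.cons_zero, mul_one]
    have : Matrix.vecTail (fun i => D ((Fin.cons (e 0) b : Fin (q+1) → A) i)) =
        fun i => D (b i) := by
      funext i; simp [Matrix.vecTail]
    rw [this]
    rw [Derivation.leibniz]
    simp [map_add, map_smul, add_mul, mul_assoc]

variable {Ω' : Type u} [AddCommGroup Ω'] [Module A Ω'] (π : Ω[A⁄R] →ₗ[A] Ω')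

theorem key_zero (hdA : DeRham.IsDiff (KaehlerDifferential.D R A) dA)
    (q : ℕ) (x : ↥(⋀[A]^1 (Ω[A⁄R])))
    (hx : π (oneEquiv A _ x) = 0) (hx2 : exteriorPower.map 2 π (dA 1 x) = 0)
    (b₀ : A) (b : Fin q → A) :
    exteriorPower.map (q+1+1) π (dA (q+1) (b₀ • wedge (show 1 + q = q + 1 from add_comm 1 q) x
        (ιMulti A q (fun i => D (b i))))) = 0 := by
  apply Subtype.ext
  rw [coe_map, leibniz_coe dA hdA]
  have h1 : ExteriorAlgebra.map π ((dA 1 x : ↥(⋀[A]^(1+1) (Ω[A⁄R]))) : EA) = 0 := by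
    rw [← coe_map, hx2]; rfl
  have h2 : ExteriorAlgebra.map π (x : EA) = 0 := by
    rw [← coe_map]
    have : exteriorPower.map 1 π x = 0 := by
      have := LinearMap.congr_fun (oneEquiv_naturality (R := A) π) x
      simp only [LinearMap.comp_apply, LinearEquiv.coe_coe] at this
      rw [hx] at this
      exact (LinearEquiv.map_eq_zero_iff _).mp this
    rw [this]; rfl
  rw [map_add, map_mul, map_mul, map_mul, map_smul, h1, h2]
  simp

/-- The forms `y` all of whose multiples have differential killed by `⋀π`. -/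
def Z (q : ℕ) : Submodule A ↥(⋀[A]^(q+1) (Ω[A⁄R])) where
  carrier := {y | ∀ a : A, exteriorPower.map (q+1+1) π (dA (q+1) (a • y)) = 0}
  add_mem' := by
    intro y z hy hz a
    rw [smul_add, map_add, map_add, hy a, hz a, add_zero]
  zero_mem' := by intro a; simp
  smul_mem' := by
    intro c y hy a
    rw [smul_smul]; exact hy _

theorem wedge_mem_Z (hdA : DeRham.IsDiff (KaehlerDifferential.D R A) dA)
    (q : ℕ) (x : ↥(⋀[A]^1 (Ω[A⁄R])))
    (hx : π (oneEquiv A _ x) = 0) (hx2 : exteriorPower.map 2 π (dA 1 x) = 0)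
    (y : ↥(⋀[A]^q (Ω[A⁄R]))) :
    wedge (show 1 + q = q + 1 from add_comm 1 q) x y ∈ Z dA π q := by
  have hδ := KaehlerDifferential.span_range_derivation R A
  induction y using Groth.Agent.H6.DR.gen_induction (KaehlerDifferential.D R A) hδ q with
  | h0 => rw [map_zero]; exact Submodule.zero_mem _
  | hadd y z hy hz => rw [map_add]; exact Submodule.add_mem _ hy hz
  | hgen b₀ b =>
    intro a
    have e : wedge (show 1 + q = q + 1 from add_comm 1 q) x (DeRham.gen D q b₀ b) =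
        b₀ • wedge (show 1 + q = q + 1 from add_comm 1 q) x (ιMulti A q (fun i => D (b i))) :=
      LinearMap.map_smul _ _ _
    rw [e, smul_smul]
    exact key_zero dA π hdA q x hx hx2 (a * b₀) b

theorem K_le_Z (hdA : DeRham.IsDiff (KaehlerDifferential.D R A) dA)
    (hker : LinearMap.ker π ≤ Submodule.span A {ω : Ω[A⁄R] | π ω = 0 ∧
      exteriorPower.map 2 π (dA 1 ((exteriorPower.oneEquiv A (Ω[A⁄R])).symm ω)) = 0})
    (q : ℕ) : K π q ≤ Z dA π q := by
  have h2 : ∀ ω : Ω[A⁄R], ω ∈ Submodule.span A {ω : Ω[A⁄R] | π ω = 0 ∧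
      exteriorPower.map 2 π (dA 1 ((exteriorPower.oneEquiv A (Ω[A⁄R])).symm ω)) = 0} →
      ∀ y : ↥(⋀[A]^q (Ω[A⁄R])),
      wedge (show 1 + q = q + 1 from add_comm 1 q) ((oneEquiv A (Ω[A⁄R])).symm ω) y ∈
        Z dA π q := by
    intro ω hmem y
    induction hmem using Submodule.span_induction with
    | mem ω h =>
      exact wedge_mem_Z dA π hdA q _ (by simpa using h.1) h.2 y
    | zero => simp
    | add ω ω' _ _ h h' =>
      rw [map_add, map_add, LinearMap.add_apply]; exact Submodule.add_mem _ h h'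
    | smul c ω _ h =>
      rw [map_smul, map_smul, LinearMap.smul_apply]; exact Submodule.smul_mem _ _ h
  apply Submodule.span_le.mpr
  rintro _ ⟨ω, m, hω, rfl⟩
  have : ιMulti A (q+1) (Fin.cons ω m) =
      wedge (show 1 + q = q + 1 from add_comm 1 q) ((oneEquiv A (Ω[A⁄R])).symm ω)
        (ιMulti A q m) := by
    apply Subtype.ext
    rw [coe_ιMulti_cons, coe_wedge, oneEquiv_symm_apply, ιMulti_apply_coe, ιMulti_apply_coe,
      ExteriorAlgebra.ιMulti_succ_apply, ExteriorAlgebra.ιMulti_zero_apply, mul_one]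
  rw [this]
  exact h2 ω (hker (LinearMap.mem_ker.mpr hω)) _

theorem main_ker (hdA : DeRham.IsDiff (KaehlerDifferential.D R A) dA)
    (hπ : Surjective π)
    (hker : LinearMap.ker π ≤ Submodule.span A {ω : Ω[A⁄R] | π ω = 0 ∧
      exteriorPower.map 2 π (dA 1 ((exteriorPower.oneEquiv A (Ω[A⁄R])).symm ω)) = 0})
    (p : ℕ) (x : ↥(⋀[A]^p (Ω[A⁄R]))) (hx : exteriorPower.map p π x = 0) :
    exteriorPower.map (p+1) π (dA p x) = 0 := by
  cases p with
  | zero =>
    have := ker_map_zero (f := π) x hx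
    rw [this, map_zero, map_zero]
  | succ q =>
    have h1 : x ∈ K π q := ker_map_le_K hπ q (LinearMap.mem_ker.mpr hx)
    have h2 := K_le_Z dA π hdA hker q h1 1
    rwa [one_smul] at h2

end

theorem main15296 (R A Ω' : Type u) [CommRing R] [CommRing A] [Algebra R A]
    [AddCommGroup Ω'] [Module A Ω'] [Module R Ω'] [IsScalarTower R A Ω']
    (π : Ω[A⁄R] →ₗ[A] Ω') (hπ : Function.Surjective π)
    (dA : ∀ p : ℕ, ↥(⋀[A]^p (Ω[A⁄R])) →ₗ[R] ↥(⋀[A]^(p + 1) (Ω[A⁄R])))
    (hdA : DeRham.IsDiff (KaehlerDifferential.D R A) dA)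
    (hker : LinearMap.ker π ≤ Submodule.span A {ω : Ω[A⁄R] | π ω = 0 ∧
      exteriorPower.map 2 π (dA 1 ((exteriorPower.oneEquiv A (Ω[A⁄R])).symm ω)) = 0}) :
    ∃ d : ∀ p : ℕ, ↥(⋀[A]^p Ω') →ₗ[R] ↥(⋀[A]^(p + 1) Ω'),
      DeRham.IsDiff (π.compDer (KaehlerDifferential.D R A)) d ∧
        ∀ (p : ℕ) (x : ↥(⋀[A]^p (Ω[A⁄R]))),
          d p (exteriorPower.map p π x) = exteriorPower.map (p + 1) π (dA p x) := by
  have hsurj : ∀ p, Surjective ((exteriorPower.map p π).restrictScalars R) :=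
    fun p => exteriorPower.map_surjective (R := A) (n := p) hπ
  let T : ∀ p, ↥(⋀[A]^p (Ω[A⁄R])) →ₗ[R] ↥(⋀[A]^(p + 1) Ω') :=
    fun p => ((exteriorPower.map (p+1) π).restrictScalars R) ∘ₗ dA p
  have hle : ∀ p, LinearMap.ker ((exteriorPower.map p π).restrictScalars R) ≤
      LinearMap.ker (T p) := by
    intro p x hx
    rw [LinearMap.mem_ker] at hx ⊢
    exact main_ker dA π hdA hπ hker p x hx
  let d' : ∀ p : ℕ, ↥(⋀[A]^p Ω') →ₗ[R] ↥(⋀[A]^(p + 1) Ω') := fun p =>
    (Submodule.liftQ _ (T p) (hle p)) ∘ₗ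
      ((LinearMap.quotKerEquivOfSurjective _ (hsurj p)).symm : _ →ₗ[R] _)
  have hd' : ∀ (p : ℕ) (x : ↥(⋀[A]^p (Ω[A⁄R]))),
      d' p (exteriorPower.map p π x) = exteriorPower.map (p + 1) π (dA p x) := by
    intro p x
    have : (LinearMap.quotKerEquivOfSurjective _ (hsurj p)).symm (exteriorPower.map p π x) =
        Submodule.Quotient.mk x := by
      rw [LinearEquiv.symm_apply_eq]
      rfl
    simp only [d', LinearMap.comp_apply, LinearEquiv.coe_coe]
    rw [this, Submodule.liftQ_apply]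
    rfl
  refine ⟨d', ⟨?_, ?_⟩, hd'⟩
  · intro p b₀ b
    have e : DeRham.gen (π.compDer (KaehlerDifferential.D R A)) p b₀ b =
        exteriorPower.map p π (DeRham.gen (KaehlerDifferential.D R A) p b₀ b) := by
      unfold DeRham.gen
      rw [map_smul, exteriorPower.map_apply_ιMulti]
      rfl
    rw [e, hd', hdA.1 p b₀ b, exteriorPower.map_apply_ιMulti]
    congr 1
    funext i
    refine Fin.cases ?_ (fun j => ?_) i <;> simp
  · intro p
    apply LinearMap.ext
    intro y
    obtain ⟨x, rfl⟩ := exteriorPower.map_surjective (R := A) (n := p) hπ y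
    rw [LinearMap.comp_apply, hd', hd']
    have := LinearMap.congr_fun (hdA.2 p) x
    rw [LinearMap.comp_apply] at this
    rw [this]; simp

end Groth.Agent.Lib.Helper5.DRQuot
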